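import Cfsg.Agent.Lib.JFourPGL.Model

/-!
# Overgroups in `M24` of the Frobenius group of order 253
-/

set_option autoImplicit false
set_option linter.style.haveILetI false

namespace CfsgLib.JFourPGL

open Cfsg CfsgLib.Golay CfsgLib.Golay.ProjLineMax CfsgLib.SelfCent

theorem pt_last : (pt 23 : GolayPt) = none := rfl

theorem pt_first : (pt 0 : GolayPt) = some 0 := by decide +kernel

theorem L0_inf_fix : L0 ⊓ fixH M24 F23 = affSq := by
  refine (eq_or_eq23 (L0 ⊓ fixH M24 F23) (le_inf affSq_le affSq_le_fix) inf_le_right).resolve_right fun h => ?_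
  have := Subgroup.card_dvd_of_le (inf_le_left : L0 ⊓ fixH M24 F23 ≤ L0)
  rw [h, natCard_fix23, L0, card_closure_genL] at this
  norm_num at this

theorem aff_mem_yy {u : (ZMod 23)ˣ} (hu : IsSquare u) : aff u 0 ∈ Subgroup.zpowers yy := by
  obtain ⟨k, hk⟩ : ∃ k : Fin 11, two ^ (k : ℕ) = u := by
    have h : ∀ u : (ZMod 23)ˣ, (∃ v, u = v * v) → ∃ k : Fin 11, two ^ (k : ℕ) = u := by decide +kernel
    exact h u hu
  have hp : ∀ k : ℕ, aff two 0 ^ k = aff (two ^ k) 0 := by
    intro k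
    induction k with
    | zero => rw [pow_zero, pow_zero, aff_one]
    | succ k ih => rw [pow_succ, ih, aff_mul, pow_succ]; simp
  exact ⟨((k : ℕ) : ℤ), by
    show yy ^ ((k : ℕ) : ℤ) = aff u 0
    rw [zpow_natCast, yy_eq, hp, hk]⟩

theorem mem_yy_of_fix {g : Equiv.Perm GolayPt} (hg : g ∈ affSq) (h0 : g (some 0) = some 0) :
    g ∈ Subgroup.zpowers yy := by
  obtain ⟨u, a, hu, rfl⟩ := hg
  rw [aff_apply] at h0
  simp only [Option.map_some, mul_zero, zero_add, Option.some.injEq] at h0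
  subst h0
  exact aff_mem_yy hu

theorem projInv_yy : projInv * yy * projInv⁻¹ = yy⁻¹ := by
  rw [projInv_inv, yy_eq, projInv_mul, mul_assoc, projInv_sq, mul_one, aff_inv, mul_zero]

theorem fix_pair {g : Equiv.Perm GolayPt} (hn : g * yy = yy * g) :
    g none = none ∨ g none = some 0 := by
  have h0 : yy (none : GolayPt) = none := by rw [yy_eq]; rfl
  have h1 : yy (g none) = g none := by
    rw [← Equiv.Perm.mul_apply, ← hn, Equiv.Perm.mul_apply, h0]
  rw [yy_eq, aff_apply] at h1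
  exact yy_fixed _ h1

/-- The element of order eleven is self-centralizing in the projective special linear group. -/
theorem cent_yy {x : Equiv.Perm GolayPt} (hx : x ∈ L0) (hc : x * yy = yy * x) : x ∈ Subgroup.zpowers yy := by
  have hM : x ∈ M24 := genL_le hx
  have haff : ∀ y ∈ L0, y none = none → y ∈ affSq := fun y hy h => by
    rw [← L0_inf_fix]
    exact ⟨hy, mem_fix23_iff.2 ⟨genL_le hy, h⟩⟩
  have hz : x (some 0) = none ∨ x (some 0) = some 0 := by
    have h0 : yy (some 0 : GolayPt) = some 0 := by rw [yy_eq, aff_apply]; decide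
    have h1 : yy (x (some 0)) = x (some 0) := by
      rw [← Equiv.Perm.mul_apply, ← hc, Equiv.Perm.mul_apply, h0]
    rw [yy_eq, aff_apply] at h1
    exact yy_fixed _ h1
  rcases fix_pair hc with h | h
  · exact mem_yy_of_fix (haff x hx h) (hz.resolve_left fun e => Option.some_ne_none _ (x.injective (e.trans h.symm)))
  · exfalso
    have h' : x (some 0) = none := hz.resolve_right fun e => Option.some_ne_none _ (x.injective (h.trans e.symm)).symm
    have hm : x * projInv ∈ Subgroup.zpowers yy := by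
      refine mem_yy_of_fix (haff _ (mul_mem hx projInv_mem_genL) ?_) ?_
      · rw [Equiv.Perm.mul_apply, show projInv (none : GolayPt) = some 0 from rfl, h']
      · rw [Equiv.Perm.mul_apply, show projInv (some 0 : GolayPt) = none from rfl, h]
    obtain ⟨i, hi : yy ^ i = x * projInv⟩ := hm
    have h2 : x * projInv * yy = yy * (x * projInv) := by rw [← hi]; exact (Commute.refl yy).zpow_left i
    have h3 : yy⁻¹ = yy := by
      rw [← projInv_yy]
      refine mul_inv_eq_iff_eq_mul.2 (mul_left_cancel (a := x) ?_)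
      rw [← mul_assoc, h2, ← mul_assoc, ← hc, mul_assoc]
    have h4 := orderOf_dvd_of_pow_eq_one (x := yy) (n := 2) (by rw [pow_two]; nth_rw 1 [← h3]; rw [inv_mul_cancel])
    rw [order_yy] at h4
    norm_num at h4

/-- An overgroup of the Frobenius group not containing a point stabilizer is the projective special linear group. -/
theorem overgroup_cases {J : Subgroup (Equiv.Perm GolayPt)} (hJ : J ≤ M24) (hB : affSq ≤ J)
    (hc : 253 < Nat.card J) : J = L0 ∨ fixH M24 F23 ≤ J := by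
  rcases eq_or_eq23 (J ⊓ fixH M24 F23) (le_inf hB affSq_le_fix) inf_le_right with h | h
  swap
  · exact Or.inr (h ▸ inf_le_left)
  left
  have hfix : ∀ g ∈ J, g none = none → g ∈ affSq := fun g hg hn => by
    rw [← h]; exact ⟨hg, mem_fix23_iff.2 ⟨hJ hg, hn⟩⟩
  obtain ⟨g, hg, hgn⟩ : ∃ g ∈ J, g none ≠ (none : GolayPt) := by
    by_contra hno
    push Not at hno
    have := Subgroup.card_le_of_le (fun g hg => hfix g hg (hno g hg) : J ≤ affSq)
    rw [card_affSq] at this
    omega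
  obtain ⟨x, hx⟩ := Option.ne_none_iff_exists'.1 hgn
  set g1 := aff 1 (-x) * g with hg1
  have hg1J : g1 ∈ J := mul_mem (hB ⟨1, -x, IsSquare.one, rfl⟩) hg
  have hg1n : g1 none = some 0 := by
    rw [hg1, Equiv.Perm.mul_apply, hx, aff_apply]; simp
  obtain ⟨c, hc1⟩ : ∃ c, g1.symm none = some c := Option.ne_none_iff_exists'.1 fun e => by
    have := g1.apply_symm_apply none
    rw [e, hg1n] at this
    exact Option.some_ne_none _ this
  set k0 := g1 * aff 1 c with hk0
  have hk0J : k0 ∈ J := mul_mem hg1J (hB ⟨1, c, IsSquare.one, rfl⟩)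
  have hkn : k0 none = some 0 := by
    rw [hk0, Equiv.Perm.mul_apply, aff_apply]; exact hg1n
  have hk0z : k0 (some 0) = none := by
    rw [hk0, Equiv.Perm.mul_apply, aff_apply]
    simp only [Option.map_some, mul_zero, zero_add]
    rw [← hc1, Equiv.apply_symm_apply]
  -- it differs from the inversion by a power of the element of order eleven
  set k := k0 * projInv with hk
  have hkM : k ∈ M24 := mul_mem (hJ hk0J) projInv_mem
  have hk1 : k none = none := by
    rw [hk, Equiv.Perm.mul_apply, show projInv (none : GolayPt) = some 0 from rfl, hk0z]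
  have hk2 : k (some 0) = some 0 := by
    rw [hk, Equiv.Perm.mul_apply, show projInv (some 0 : GolayPt) = none from rfl, hkn]
  have hyyJ : yy ∈ J := hB (yy_eq ▸ ⟨two, 0, isSquare_two, rfl⟩)
  have hyn : yy (none : GolayPt) = none := by rw [yy_eq]; rfl
  have hy0 : yy (some 0 : GolayPt) = some 0 := by rw [yy_eq, aff_apply]; decide
  have hk0i : k0⁻¹ none = some 0 ∧ k0⁻¹ (some 0) = none :=
    ⟨Equiv.Perm.inv_eq_iff_eq.2 hk0z.symm, Equiv.Perm.inv_eq_iff_eq.2 hkn.symm⟩
  obtain ⟨m, hm : yy ^ m = k0 * yy * k0⁻¹⟩ : k0 * yy * k0⁻¹ ∈ Subgroup.zpowers yy := by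
    refine mem_yy_of_fix (hfix _ (mul_mem (mul_mem hk0J hyyJ) (inv_mem hk0J)) ?_) ?_
    · rw [Equiv.Perm.mul_apply, Equiv.Perm.mul_apply, hk0i.1, hy0, hk0z]
    · rw [Equiv.Perm.mul_apply, Equiv.Perm.mul_apply, hk0i.2, hyn, hkn]
  have hm2 : (yy ^ m) ^ m = yy := by
    have hsq : k0 * k0 ∈ Subgroup.zpowers yy := by
      refine mem_yy_of_fix (hfix _ (mul_mem hk0J hk0J) ?_) ?_
      · rw [Equiv.Perm.mul_apply, hkn, hk0z]
      · rw [Equiv.Perm.mul_apply, hk0z, hkn]
    obtain ⟨i, hi : yy ^ i = k0 * k0⟩ := hsq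
    rw [hm, conj_zpow, hm]
    calc k0 * (k0 * yy * k0⁻¹) * k0⁻¹ = k0 * k0 * yy * (k0 * k0)⁻¹ := by group
      _ = yy := by rw [← hi, ((Commute.refl yy).zpow_left i).eq]; group
  have hpm : yy ^ m = yy ∨ yy ^ m = yy⁻¹ := by
    haveI : Fact (Nat.Prime 11) := ⟨by norm_num⟩
    rw [← zpow_mul] at hm2
    have hm3 : yy ^ (m * m) = yy ^ (1 : ℤ) := by rw [hm2, zpow_one]
    rw [zpow_eq_zpow_iff_modEq, order_yy, ← ZMod.intCast_eq_intCast_iff, Int.cast_mul, Int.cast_one,
      mul_self_eq_one_iff] at hm3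
    rcases hm3 with h3 | h3
    · left
      conv_rhs => rw [← zpow_one yy]
      rw [zpow_eq_zpow_iff_modEq, order_yy, ← ZMod.intCast_eq_intCast_iff, h3, Int.cast_one]
    · right
      rw [← zpow_neg_one, zpow_eq_zpow_iff_modEq, order_yy, ← ZMod.intCast_eq_intCast_iff, h3]
      simp
  obtain ⟨hx22, hsc, hinv⟩ := Aut.selfCent11
  have hk22 : k ∈ fixH M24 F22 := mem_fix22_iff.2 ⟨hkM, hk1, by rw [pt_first]; exact hk2⟩
  have hky : k * yy⁻¹ * k⁻¹ = yy ^ m := by
    rw [hm, ← projInv_yy, hk, _root_.mul_inv_rev, projInv_inv,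
      show k0 * projInv * (projInv * yy * projInv) * (projInv * k0⁻¹) =
        k0 * (projInv * projInv) * yy * (projInv * projInv) * k0⁻¹ by simp only [mul_assoc],
      projInv_sq, mul_one, mul_one]
  have hky' : k * yy * k⁻¹ = (yy ^ m)⁻¹ := by rw [← hky]; group
  rcases hpm with hp | hp
  · exfalso
    refine hinv ⟨k, hk22⟩ (Subtype.ext ?_)
    show k * yy * k⁻¹ = yy⁻¹
    rw [hky', hp]
  · have hcomm : k * yy = yy * k := mul_inv_eq_iff_eq_mul.1 (by rw [hky', hp, inv_inv])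
    have hk11 : (⟨k, hk22⟩ : fixH M24 F22) ∈ Subgroup.centralizer
        ({(⟨toPerm elt22, hx22⟩ : fixH M24 F22)} : Set (fixH M24 F22)) :=
      Subgroup.mem_centralizer_singleton_iff.2 (Subtype.ext hcomm)
    rw [hsc.2.2] at hk11
    obtain ⟨i, hi⟩ := Subgroup.mem_zpowers_iff.1 hk11
    have hkJ : k ∈ J := by
      rw [show k = yy ^ i from (congrArg Subtype.val hi).symm.trans (SubgroupClass.coe_zpow _ _)]
      exact zpow_mem hyyJ i
    have hwJ : projInv ∈ J := by
      rw [show projInv = k0⁻¹ * k by rw [hk]; group]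
      exact mul_mem (inv_mem hk0J) hkJ
    have hle : L0 ≤ J := by
      rw [L0, Subgroup.closure_le]
      rintro y ((rfl | rfl) | ⟨u, hu, rfl⟩)
      · exact hB ⟨1, 1, IsSquare.one, shift_aff⟩
      · exact hwJ
      · exact hB ⟨u, 0, hu, mulLeft_aff u⟩
    refine (Subgroup.eq_of_le_of_card_ge hle ?_).symm
    rw [← Aut.card_eq_orbit_mul J none, L0, card_closure_genL]
    have hst : J ⊓ MulAction.stabilizer (Equiv.Perm GolayPt) (none : GolayPt) ≤ affSq :=
      fun y hy => hfix y hy.1 hy.2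
    have h1 := Subgroup.card_le_of_le hst
    have h2 : Nat.card (MulAction.orbit J (none : GolayPt)) ≤ 24 :=
      Aut.orbit_le (S := Finset.univ) fun _ _ => Finset.mem_univ _
    rw [card_affSq] at h1
    exact Nat.mul_le_mul h2 h1

/-- No automorphism of an overgroup of a point stabilizer inverts the translation. -/
theorem no_invert {J : Subgroup (Equiv.Perm GolayPt)} (hJ : J ≤ M24) (h : fixH M24 F23 ≤ J) (θ : ↥J ≃* ↥J)
    (ht : aff 1 1 ∈ J) : θ ⟨aff 1 1, ht⟩ ≠ ⟨aff 1 1, ht⟩⁻¹ := by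
  classical
  intro hθ
  let K := (((fixH M24 F23).subgroupOf J).map θ.toMonoidHom).map J.subtype
  have hKc : Nat.card K = 10200960 := by
    rw [Subgroup.card_map_of_injective J.subtype_injective,
      Subgroup.card_map_of_injective (f := θ.toMonoidHom) θ.injective,
      Nat.card_congr (Subgroup.subgroupOfEquivOfLe h).toEquiv, natCard_fix23]
  obtain ⟨q, hq⟩ := Aut.index24 K ((Subgroup.map_subtype_le _).trans hJ) hKc
  have httf : aff 1 1 ∈ fixH M24 F23 := affSq_le_fix ⟨1, 1, IsSquare.one, rfl⟩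
  have htK : (aff 1 1)⁻¹ ∈ K :=
    ⟨θ ⟨aff 1 1, ht⟩, ⟨⟨aff 1 1, ht⟩, httf, rfl⟩, by rw [hθ]; rfl⟩
  rw [hq] at htK
  have hqn : q = none := by
    have h1 : (aff 1 1 : Equiv.Perm GolayPt) q = q := (Equiv.Perm.inv_eq_iff_eq.1 htK.2).symm
    rw [aff_apply] at h1
    exact tt_fixed _ h1
  subst hqn
  have hKf : ∀ x (hx : x ∈ fixH M24 F23), (θ ⟨x, h hx⟩ : Equiv.Perm GolayPt) ∈ fixH M24 F23 := by
    intro x hx
    have h1 : (θ ⟨x, h hx⟩ : Equiv.Perm GolayPt) ∈ K := ⟨θ ⟨x, h hx⟩, ⟨⟨x, h hx⟩, hx, rfl⟩, rfl⟩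
    rw [hq] at h1
    exact mem_fix23_iff.2 ⟨h1.1, h1.2⟩
  let ψ : ↥(fixH M24 F23) →* ↥(fixH M24 F23) :=
    (J.subtype.comp (θ.toMonoidHom.comp (Subgroup.inclusion h))).codRestrict _ fun x => hKf x x.2
  have hψ : Function.Injective ψ := fun x y e => by
    have e1 : θ (Subgroup.inclusion h x) = θ (Subgroup.inclusion h y) :=
      Subtype.ext (congrArg Subtype.val e :)
    exact Subgroup.inclusion_injective h (θ.injective e1)
  let φ : MulAut ↥(fixH M24 F23) := MulEquiv.ofBijective ψ ⟨hψ, Finite.injective_iff_surjective.1 hψ⟩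
  have htop : Cfsg.Inn ↥(fixH M24 F23) = ⊤ := by
    have := Aut.out23
    rw [Cfsg.Out, ← Subgroup.index_eq_card] at this
    exact Subgroup.index_eq_one.1 this
  obtain ⟨σ, hσ⟩ : φ ∈ Cfsg.Inn ↥(fixH M24 F23) := by rw [htop]; trivial
  have e : (σ : Equiv.Perm GolayPt) * aff 1 1 * (σ : Equiv.Perm GolayPt)⁻¹ = (aff 1 1)⁻¹ := by
    have h1 := congrArg (fun a : MulAut ↥(fixH M24 F23) => (a ⟨aff 1 1, httf⟩ : Equiv.Perm GolayPt)) hσ
    simp only [MulAut.conj_apply, Subgroup.coe_mul, InvMemClass.coe_inv] at h1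
    rw [h1]
    show (θ ⟨aff 1 1, _⟩ : Equiv.Perm GolayPt) = _
    rw [hθ]; rfl
  have hN : (σ : Equiv.Perm GolayPt) ∈
      M24 ⊓ Subgroup.normalizer (Subgroup.zpowers (aff 1 1) : Set (Equiv.Perm GolayPt)) :=
    ⟨(mem_fix23_iff.1 σ.2).1, mem_normalizer_of_conj (by rw [e]; exact inv_mem (Subgroup.mem_zpowers _))⟩
  have h253 : (σ : Equiv.Perm GolayPt) ^ 253 = 1 :=
    orderOf_dvd_iff_pow_eq_one.1 ((Subgroup.orderOf_dvd_natCard _ hN).trans tt_dvd)
  have h2 : Commute ((σ : Equiv.Perm GolayPt) ^ 2) (aff 1 1) := by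
    refine mul_inv_eq_iff_eq_mul.1 ?_
    calc (σ : Equiv.Perm GolayPt) ^ 2 * aff 1 1 * ((σ : Equiv.Perm GolayPt) ^ 2)⁻¹
        = (σ : Equiv.Perm GolayPt) * ((σ : Equiv.Perm GolayPt) * aff 1 1 * (σ : Equiv.Perm GolayPt)⁻¹) *
            (σ : Equiv.Perm GolayPt)⁻¹ := by rw [pow_two]; simp only [_root_.mul_inv_rev, mul_assoc]
      _ = aff 1 1 := by rw [e, ← conj_inv, e, inv_inv]
  have h3 : (σ : Equiv.Perm GolayPt) = ((σ : Equiv.Perm GolayPt) ^ 2) ^ 127 := by
    rw [← pow_mul, show 2 * 127 = 253 + 1 by norm_num, pow_succ, h253, one_mul]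
  rw [h3, mul_inv_eq_iff_eq_mul, ((h2.pow_left 127)).eq] at e
  have h4 := mul_right_cancel e
  have h5 := orderOf_dvd_of_pow_eq_one (x := aff 1 1) (n := 2) (by rw [pow_two]; nth_rw 2 [h4]; rw [mul_inv_cancel])
  rw [order_tt] at h5
  norm_num at h5

end CfsgLib.JFourPGL
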