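import Cfsg.Agent.Lib.JFour.VPairs
import Cfsg.Agent.Lib.JFour.TSplit
import Cfsg.Agent.Lib.JFourPGL.Overgroup

/-!
# The projective linear group over 23 elements in a group of Janko-four type

An involution `s` centralizing an element of order eleven and inverting one of order 23 moves the normalizer `N` of
the elementary subgroup.  As `N` has index 173067389, the intersection of `N` with its conjugate is larger than the
Frobenius group of order 253, so it is a projective special linear group normalized by `s`.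
-/

set_option autoImplicit false
set_option maxRecDepth 100000
set_option linter.style.haveILetI false

open Cfsg
open scoped Pointwise

namespace CfsgLib.JFourPGL

open CfsgLib.Golay CfsgLib.Golay.ProjLineMax CfsgLib.JFour

/-- The translation and the dilatation in the group of the code. -/
noncomputable def aEl : ↥Cfsg.M24 := ⟨aff 1 1, shift_aff ▸ shift_mem⟩

noncomputable def rEl : ↥Cfsg.M24 := ⟨aff two 0, mulLeft_aff two ▸ mul_square_mem two isSquare_two⟩

theorem rel_ra : rEl * aEl * rEl⁻¹ = aEl ^ 2 := by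
  refine Subtype.ext ?_
  simp only [Subgroup.coe_mul, InvMemClass.coe_inv, SubmonoidClass.coe_pow, rEl, aEl]
  rw [aff_inv, aff_mul, aff_mul, aff_pow]
  congr 1 <;> simp [two]

theorem order_aEl : orderOf aEl = 23 := by rw [aEl, Subgroup.orderOf_mk, order_tt]

theorem order_rEl : orderOf rEl = 11 := by rw [rEl, Subgroup.orderOf_mk, ← yy_eq, order_yy]

theorem affSq_eq : affSq = Subgroup.closure ({aff 1 1, aff two 0} : Set (Equiv.Perm GolayPt)) := by
  refine le_antisymm ?_ ((Subgroup.closure_le _).2 ?_)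
  · rintro _ ⟨u, b, hu, rfl⟩
    obtain ⟨k, hk⟩ := Subgroup.mem_zpowers_iff.1 (aff_mem_yy hu)
    have e : aff u b = aff 1 1 ^ b.val * aff u 0 := by
      rw [aff_pow, ZMod.natCast_val, ZMod.cast_id, mul_one, aff_mul, one_mul]; congr 1; simp
    rw [e, ← hk, yy_eq]
    exact Subgroup.mul_mem _
      (Subgroup.pow_mem _ (Subgroup.subset_closure (Set.mem_insert _ _)) _)
      (Subgroup.zpow_mem _ (Subgroup.subset_closure (Set.mem_insert_of_mem _ (Set.mem_singleton _))) _)
  · rintro _ (rfl | rfl)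
    · exact ⟨1, 1, IsSquare.one, rfl⟩
    · exact ⟨two, 0, isSquare_two, rfl⟩

variable {G : Type*} [Group G] [Finite G]

/-- The normalizer of an elementary subgroup of order `2 ^ 11` maps onto `M24`, with a section. -/
theorem exists_norm [IsSimpleGroup G] (hG : ¬ IsMulCommutative G) {z : G} (hJ : IsOfJankoFourTypeAt z) :
    ∃ (V : Subgroup G) (φ : ↥(Subgroup.normalizer (V : Set G)) →* ↥Cfsg.M24) (Ψ : ↥Cfsg.M24 →* G)
      (hΨ : ∀ σ, Ψ σ ∈ Subgroup.normalizer (V : Set G)),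
      Nat.card ↥V = 2 ^ 11 ∧ (∀ m, φ m = 1 ↔ (m : G) ∈ V) ∧ (∀ σ, φ ⟨Ψ σ, hΨ σ⟩ = σ) ∧
      Nat.card ↥(Subgroup.normalizer (V : Set G)) = 2 ^ 11 * 244823040 := by
  classical
  obtain ⟨P, hP⟩ := hJ
  obtain ⟨π, -, J, g, vec, S⟩ := exists_full hG hP
  obtain ⟨V, hV⟩ := S.exists_isV
  have D : J.Std g vec V := ⟨S, hV, unique11_of_type (G := G) ⟨z, P, hP⟩⟩
  obtain ⟨K, hKN, hKV, hKs, -⟩ := D.exists_complement
  obtain ⟨φ, hker, hsurj, -⟩ := D.exists_hom
  let f : ↥K →* ↥Cfsg.M24 := φ.comp (Subgroup.inclusion hKN)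
  have hker' : ∀ m, φ m = 1 ↔ (m : G) ∈ V := fun m => by
    rw [← MonoidHom.mem_ker, hker]; rfl
  have hf : Function.Bijective f := by
    refine ⟨?_, fun σ => ?_⟩
    · rw [injective_iff_map_eq_one]
      intro k hk
      have h2 : (k : G) ∈ K ⊓ V := ⟨k.2, (hker' _).1 hk⟩
      rw [hKV, Subgroup.mem_bot] at h2
      exact Subtype.ext h2
    · obtain ⟨m, rfl⟩ := hsurj σ
      have hm := m.2
      rw [← SetLike.mem_coe] at hm
      have hm' : (m : G) ∈ (V : Set G) * (K : Set G) := by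
        rw [← Subgroup.coe_mul_of_right_le_normalizer_left V K hKN, sup_comm, hKs]
        exact hm
      obtain ⟨v, hv, k, hk, e⟩ := hm'
      refine ⟨⟨k, hk⟩, ?_⟩
      have hm2 : m = ⟨v, Subgroup.le_normalizer hv⟩ * Subgroup.inclusion hKN ⟨k, hk⟩ := Subtype.ext e.symm
      rw [hm2, map_mul, (hker' ⟨v, Subgroup.le_normalizer hv⟩).2 hv, one_mul]
      rfl
  let ψ := (MulEquiv.ofBijective f hf).symm
  exact ⟨V, φ, K.subtype.comp ψ.toMonoidHom, fun σ => hKN (ψ σ).2, D.isV.card, hker',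
    fun σ => (MulEquiv.ofBijective f hf).apply_symm_apply σ, D.card_normalizer⟩

/-- A subgroup of a `2`-group normalized by an element of order 23 without fixed points is trivial or large. -/
theorem card_of_fpf {a : G} (ha : orderOf a = 23)
    (hC : Nat.card ↥(Subgroup.centralizer ({a} : Set G)) = 23) {X : Subgroup G}
    (hX : Nat.card ↥X ∣ 2 ^ 11) (hnorm : ∀ x ∈ X, a * x * a⁻¹ ∈ X) :
    X = ⊥ ∨ Nat.card ↥X = 2 ^ 11 := by
  classical
  haveI : Fact (Nat.Prime 23) := ⟨by norm_num⟩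
  haveI : Fintype ↥X := Fintype.ofFinite _
  let e : Equiv.Perm ↥X := Equiv.ofBijective (fun x => ⟨a * (x : G) * a⁻¹, hnorm x x.2⟩)
    (Finite.injective_iff_bijective.1 fun x y h => Subtype.ext
      (mul_left_cancel (mul_right_cancel (congrArg Subtype.val h : a * (x : G) * a⁻¹ = a * (y : G) * a⁻¹))))
  have hpow : ∀ (n : ℕ) (x : ↥X), (((e ^ n) x : ↥X) : G) = a ^ n * x * (a ^ n)⁻¹ := by
    intro n
    induction n with
    | zero => intro x; simp
    | succ n ih =>
      intro x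
      rw [pow_succ', Equiv.Perm.mul_apply]
      show a * (((e ^ n) x : ↥X) : G) * a⁻¹ = _
      rw [ih x]; group
  have he : e ^ 23 ^ 1 = 1 := Equiv.ext fun x => Subtype.ext (by
    rw [pow_one, hpow, ← ha, pow_orderOf_eq_one]; simp)
  have h := Equiv.Perm.card_compl_support_modEq (n := 1) he
  have hs : e.supportᶜ = {1} := by
    ext x
    simp only [Finset.mem_compl, Equiv.Perm.mem_support, not_not, Finset.mem_singleton]
    constructor
    · intro hx
      have hxC : (x : G) ∈ Subgroup.centralizer ({a} : Set G) :=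
        Subgroup.mem_centralizer_singleton_iff.2 (mul_inv_eq_iff_eq_mul.1 (congrArg Subtype.val hx)).symm
      have h1 : orderOf (x : G) ∣ 23 := hC ▸ Subgroup.orderOf_dvd_natCard _ hxC
      have h2 : orderOf (x : G) ∣ 2 ^ 11 := (Subgroup.orderOf_dvd_natCard _ x.2).trans hX
      exact Subtype.ext (orderOf_eq_one_iff.1 (Nat.eq_one_of_dvd_coprimes (by norm_num) h1 h2))
    · rintro rfl
      exact Subtype.ext (by show a * 1 * a⁻¹ = 1; group)
  rw [hs, Finset.card_singleton, ← Nat.card_eq_fintype_card] at h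
  obtain ⟨k, hk, hk'⟩ := (Nat.dvd_prime_pow Nat.prime_two).1 hX
  rw [hk'] at h
  have : ∀ k ≤ 11, 1 % 23 = 2 ^ k % 23 → k = 0 ∨ k = 11 := by decide
  rcases this k hk h with rfl | rfl
  · exact Or.inl (Subgroup.eq_bot_of_card_eq _ (by simpa using hk'))
  · exact Or.inr hk'

/-- An involution centralizing `r` and inverting `a`. -/
theorem exists_invol {a r : G} (oa : orderOf a = 23) (hra : r * a * r⁻¹ = a ^ 2)
    (hC : Nat.card ↥(Subgroup.centralizer ({a} : Set G)) = 23)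
    (hN : 2 ∣ Nat.card ↥(Subgroup.normalizer (Subgroup.zpowers a : Set G))) :
    ∃ s : G, s * s = 1 ∧ s * a * s⁻¹ = a⁻¹ ∧ s * r * s⁻¹ = r := by
  classical
  haveI : Fact (Nat.Prime 2) := ⟨Nat.prime_two⟩
  haveI : Fact (Nat.Prime 23) := ⟨by norm_num⟩
  have a23 : a ^ 23 = 1 := by rw [← oa, pow_orderOf_eq_one]
  obtain ⟨s1, hs1⟩ := exists_prime_orderOf_dvd_card' 2 hN
  set s0 : G := (s1 : G) with hs0
  have os0 : orderOf s0 = 2 := by rw [hs0, Subgroup.orderOf_coe, hs1]
  have s02 : s0 * s0 = 1 := by rw [← pow_two, ← os0, pow_orderOf_eq_one]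
  have s0i : s0⁻¹ = s0 := inv_eq_of_mul_eq_one_right s02
  have hCz : Subgroup.centralizer ({a} : Set G) = Subgroup.zpowers a := by
    refine (Subgroup.eq_of_le_of_card_ge ?_ ?_).symm
    · rw [Subgroup.zpowers_le]
      exact Subgroup.mem_centralizer_singleton_iff.2 rfl
    · rw [hC, Nat.card_zpowers, oa]
  have hs0a : s0 * a * s0⁻¹ = a⁻¹ := by
    obtain ⟨m, hm : a ^ m = s0 * a * s0⁻¹⟩ :=
      (Subgroup.mem_normalizer_iff.1 s1.2 a).1 (Subgroup.mem_zpowers a)
    have h2 : a ^ (m * m) = a ^ (1 : ℤ) := by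
      rw [zpow_mul, hm, conj_zpow, hm, zpow_one]
      calc s0 * (s0 * a * s0⁻¹) * s0⁻¹ = s0 * s0 * a * (s0 * s0)⁻¹ := by group
        _ = a := by rw [s02]; group
    rw [zpow_eq_zpow_iff_modEq, oa, ← ZMod.intCast_eq_intCast_iff, Int.cast_mul, Int.cast_one,
      mul_self_eq_one_iff] at h2
    rcases h2 with h2 | h2
    · exfalso
      have h1 : a ^ m = a := by
        conv_rhs => rw [← zpow_one a]
        rw [zpow_eq_zpow_iff_modEq, oa, ← ZMod.intCast_eq_intCast_iff, h2, Int.cast_one]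
      have hm' : s0 ∈ Subgroup.centralizer ({a} : Set G) :=
        Subgroup.mem_centralizer_singleton_iff.2 (mul_inv_eq_iff_eq_mul.1 (hm.symm.trans h1))
      have := Subgroup.orderOf_dvd_natCard _ hm'
      rw [os0, hC] at this
      norm_num at this
    · rw [← hm, ← zpow_neg_one, zpow_eq_zpow_iff_modEq, oa, ← ZMod.intCast_eq_intCast_iff, h2]
      simp
  obtain ⟨j, hj⟩ : ∃ j : ℤ, r * s0 * r⁻¹ = a ^ j * s0 := by
    have h12 : r⁻¹ * a * r = a ^ 12 := by
      have e : r * a ^ 12 * r⁻¹ = a := by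
        rw [← conj_pow, hra, ← pow_mul, show 2 * 12 = 23 + 1 by norm_num, pow_succ, a23, one_mul]
      nth_rw 1 [← e]
      group
    have hc : Commute (r * s0 * r⁻¹ * s0) a := by
      refine mul_inv_eq_iff_eq_mul.1 ?_
      calc r * s0 * r⁻¹ * s0 * a * (r * s0 * r⁻¹ * s0)⁻¹
          = r * (s0 * (r⁻¹ * (s0 * a * s0⁻¹) * r) * s0⁻¹) * r⁻¹ := by group
        _ = r * (s0 * (r⁻¹ * a * r)⁻¹ * s0⁻¹) * r⁻¹ := by rw [hs0a]; group
        _ = r * (a ^ 12) * r⁻¹ := by
          rw [h12, show s0 * (a ^ 12)⁻¹ * s0⁻¹ = ((s0 * a * s0⁻¹) ^ 12)⁻¹ by rw [conj_pow]; group, hs0a]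
          group
        _ = a := by rw [← h12]; group
    have hm : r * s0 * r⁻¹ * s0 ∈ Subgroup.zpowers a :=
      hCz ▸ Subgroup.mem_centralizer_singleton_iff.2 hc.eq
    obtain ⟨j, hj : a ^ j = _⟩ := hm
    exact ⟨j, by rw [hj, mul_assoc (r * s0 * r⁻¹), s02, mul_one]⟩
  have hpa : ∀ i : ℤ, s0 * a ^ i * s0⁻¹ = a ^ (-i) := fun i => by rw [← conj_zpow, hs0a, inv_zpow, zpow_neg]
  refine ⟨a ^ (22 * j) * s0, ?_, ?_, ?_⟩
  · calc a ^ (22 * j) * s0 * (a ^ (22 * j) * s0)
        = a ^ (22 * j) * (s0 * a ^ (22 * j) * s0⁻¹) * (s0 * s0) := by group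
      _ = 1 := by rw [hpa, s02, mul_one, ← zpow_add, add_neg_cancel, zpow_zero]
  · calc a ^ (22 * j) * s0 * a * (a ^ (22 * j) * s0)⁻¹
        = a ^ (22 * j) * (s0 * a * s0⁻¹) * (a ^ (22 * j))⁻¹ := by group
      _ = a⁻¹ := by rw [hs0a]; group
  · have hcj : r * (a ^ (22 * j) * s0) * r⁻¹ = a ^ (22 * j) * s0 := by
      have e2 : r * a ^ (22 * j) * r⁻¹ = a ^ (2 * (22 * j)) := by
        rw [← conj_zpow, hra, ← zpow_natCast a 2, ← zpow_mul]; rfl
      calc r * (a ^ (22 * j) * s0) * r⁻¹ = r * a ^ (22 * j) * r⁻¹ * (r * s0 * r⁻¹) := by group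
        _ = a ^ (22 * j) * (a ^ (23 : ℕ)) ^ j * s0 := by
          rw [e2, hj, ← mul_assoc, ← zpow_add, ← zpow_natCast a 23, ← zpow_mul, ← zpow_add]
          congr 2; push_cast; ring
        _ = _ := by rw [a23, one_zpow, mul_one]
    exact mul_inv_eq_iff_eq_mul.2 (mul_inv_eq_iff_eq_mul.1 hcj).symm

/-- The statement from the order and the normalizers of subgroups of order 23. -/
theorem pgl_of_large [IsSimpleGroup G] (hG : ¬ IsMulCommutative G) {z : G} (hJ : IsOfJankoFourTypeAt z)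
    (hcard : Nat.card G = 86775571046077562880)
    (h23 : ∀ y : G, orderOf y = 23 → Nat.card ↥(Subgroup.centralizer ({y} : Set G)) = 23 ∧
      2 ∣ Nat.card ↥(Subgroup.normalizer (Subgroup.zpowers y : Set G))) :
    ∃ K : Subgroup G, Nonempty (↥K ≃* GL (Fin 2) (ZMod 23) ⧸ Subgroup.center (GL (Fin 2) (ZMod 23))) := by
  classical
  obtain ⟨V, φ, Ψ, hΨ, hV, hker, hsec, hN⟩ := exists_norm hG hJ
  have hVN : V ≤ Subgroup.normalizer (V : Set G) := Subgroup.le_normalizer
  have hnorm : ∀ m ∈ Subgroup.normalizer (V : Set G), ∀ x ∈ V, m * x * m⁻¹ ∈ V := fun m hm x hx =>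
    (Subgroup.mem_normalizer_iff.1 hm x).1 hx
  have hnmem : ∀ g : G, V.map (MulAut.conj g).toMonoidHom = V → g ∈ Subgroup.normalizer (V : Set G) := fun g hg =>
    Subgroup.mem_normalizer_iff_map_conj_eq.2 hg
  generalize Subgroup.normalizer (V : Set G) = N at φ hΨ hker hsec hN hVN hnorm hnmem
  have hinj : Function.Injective Ψ := fun x y e => by
    rw [← hsec x, ← hsec y]; exact congrArg φ (Subtype.ext e)
  set a := Ψ aEl with ha
  set r := Ψ rEl with hr
  have oa : orderOf a = 23 := by rw [ha, orderOf_injective Ψ hinj, order_aEl]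
  have or11 : orderOf r = 11 := by rw [hr, orderOf_injective Ψ hinj, order_rEl]
  have hra : r * a * r⁻¹ = a ^ 2 := by rw [hr, ha, ← map_inv, ← map_mul, ← map_mul, rel_ra, map_pow]
  obtain ⟨hCa, hNa⟩ := h23 a oa
  obtain ⟨s, s2, hsa, hsr⟩ := exists_invol oa hra hCa hNa
  have si : s⁻¹ = s := inv_eq_of_mul_eq_one_right s2
  have haV : ∀ x ∈ V, a * x * a⁻¹ ∈ V := hnorm a (hΨ aEl)
  have hCz : ∀ x, Commute x a → x ^ 23 = 1 := fun x hx =>
    orderOf_dvd_iff_pow_eq_one.1 (hCa ▸ Subgroup.orderOf_dvd_natCard _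
      (Subgroup.mem_centralizer_singleton_iff.2 hx.eq))
  -- the involution moves the normalizer
  have hsN : s ∉ N := by
    intro h
    set σ : ↥Cfsg.M24 := φ ⟨s, h⟩ with hσ
    have h1 : σ * σ = 1 := by
      rw [hσ, ← map_mul, show (⟨s, h⟩ : ↥N) * ⟨s, h⟩ = 1 from Subtype.ext s2, map_one]
    have h2 : σ * aEl * σ⁻¹ = aEl⁻¹ := by
      rw [hσ, ← hsec aEl, ← map_inv, ← map_mul, ← map_mul, ← map_inv]
      exact congrArg φ (Subtype.ext hsa)
    have hσN : (σ : Equiv.Perm GolayPt) ∈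
        Cfsg.M24 ⊓ Subgroup.normalizer (Subgroup.zpowers (aff 1 1) : Set (Equiv.Perm GolayPt)) := by
      refine ⟨σ.2, ProjLineMax.mem_normalizer_of_conj ?_⟩
      have e := congrArg Subtype.val h2
      simp only [Subgroup.coe_mul, InvMemClass.coe_inv, aEl] at e
      rw [e]
      exact inv_mem (Subgroup.mem_zpowers _)
    have h3 : (σ : Equiv.Perm GolayPt) ^ 253 = 1 :=
      orderOf_dvd_iff_pow_eq_one.1 ((Subgroup.orderOf_dvd_natCard _ hσN).trans tt_dvd)
    have h4 : σ = 1 := by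
      have : σ ^ 253 = 1 := Subtype.ext h3
      rwa [show 253 = 2 * 126 + 1 by norm_num, pow_succ, pow_mul, pow_two, h1, one_pow, one_mul] at this
    rw [h4, one_mul, inv_one, mul_one] at h2
    have h5 := orderOf_dvd_of_pow_eq_one (x := aEl) (n := 2) (by rw [pow_two]; nth_rw 2 [h2]; rw [mul_inv_cancel])
    rw [order_aEl] at h5
    norm_num at h5
  -- the intersection with the conjugate
  let c : G →* G := (MulAut.conj s).toMonoidHom
  have hc : ∀ x, c x = s * x * s⁻¹ := fun x => rfl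
  have hcc : ∀ x, c (c x) = x := fun x => by
    rw [hc, hc, si]
    calc s * (s * x * s) * s = s * s * x * (s * s) := by group
      _ = x := by rw [s2, one_mul, mul_one]
  let I : Subgroup G := N ⊓ N.comap c
  have hIs : ∀ x ∈ I, c x ∈ I := fun x hx => ⟨hx.2, show c (c x) ∈ N by rw [hcc]; exact hx.1⟩
  have hidx : N.index = 173067389 := by
    have h := N.card_mul_index
    rw [hN, hcard] at h
    omega
  have hIcard : 2898 ≤ Nat.card ↥I := by
    have h := I.card_mul_index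
    have h2 : I.index ≤ 173067389 * 173067389 := by
      refine Subgroup.index_inf_le.trans ?_
      rw [Subgroup.index_comap_of_surjective N (f := c) (MulAut.conj s).surjective, hidx]
    by_contra hlt
    push Not at hlt
    have h3 : Nat.card ↥I * I.index ≤ 2897 * (173067389 * 173067389) := Nat.mul_le_mul (by omega) h2
    rw [h, hcard] at h3
    omega
  have hIa : a ∈ I := ⟨hΨ aEl, show c a ∈ N by rw [hc, hsa]; exact N.inv_mem (hΨ aEl)⟩
  have hIr : r ∈ I := ⟨hΨ rEl, show c r ∈ N by rw [hc, hsr]; exact hΨ rEl⟩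
  have hIV : I ⊓ V = ⊥ := by
    refine (card_of_fpf oa hCa (X := I ⊓ V) (hV ▸ Subgroup.card_dvd_of_le (inf_le_right : I ⊓ V ≤ V)) fun x hx =>
      ⟨I.mul_mem (I.mul_mem hIa hx.1) (I.inv_mem hIa), haV x hx.2⟩).resolve_right fun h => ?_
    have hVI : V ≤ I := inf_eq_right.1 (Subgroup.eq_of_le_of_card_ge inf_le_right (by rw [h, hV]))
    let W := V.map c
    have hWN : W ≤ N := by rintro _ ⟨x, hx, rfl⟩; exact (hVI hx).2
    have hWc : Nat.card ↥W = 2 ^ 11 := by
      rw [Subgroup.card_map_of_injective (f := c) (MulAut.conj s).injective, hV]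
    rcases card_of_fpf oa hCa (X := W ⊓ V) (hV ▸ Subgroup.card_dvd_of_le (inf_le_right : W ⊓ V ≤ V)) (fun x hx => by
      refine ⟨?_, haV x hx.2⟩
      obtain ⟨y, hy, rfl⟩ := hx.1
      refine ⟨a⁻¹ * y * a, ?_, ?_⟩
      · have := hnorm _ (inv_mem (hΨ aEl)) y hy
        rwa [inv_inv] at this
      · rw [map_mul, map_mul, map_inv, show c a = a⁻¹ from hsa, inv_inv]) with h0 | h0
    · let θ : ↥W →* ↥Cfsg.M24 := φ.comp (Subgroup.inclusion hWN)
      have hθ : Function.Injective θ := by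
        rw [injective_iff_map_eq_one]
        intro x hx
        have h1 : (x : G) ∈ W ⊓ V := ⟨x.2, (hker _).1 hx⟩
        rw [h0, Subgroup.mem_bot] at h1
        exact Subtype.ext h1
      have := Subgroup.card_dvd_of_injective θ hθ
      rw [hWc, natCard_M24] at this
      norm_num at this
    · have hWV : W = V := by
        have e1 : W ⊓ V = W := Subgroup.eq_of_le_of_card_ge inf_le_left (by rw [h0, hWc])
        have e2 : W ⊓ V = V := Subgroup.eq_of_le_of_card_ge inf_le_right (by rw [h0, hV])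
        exact e1.symm.trans e2
      exact hsN (hnmem s hWV)
  -- its image
  let f : ↥I →* Equiv.Perm GolayPt := Cfsg.M24.subtype.comp (φ.comp (Subgroup.inclusion inf_le_left))
  have hf : Function.Injective f := by
    rw [injective_iff_map_eq_one]
    intro x hx
    have h1 : (x : G) ∈ I ⊓ V := ⟨x.2, (hker _).1 (Subtype.ext hx)⟩
    rw [hIV, Subgroup.mem_bot] at h1
    exact Subtype.ext h1
  have hfa : f ⟨a, hIa⟩ = aff 1 1 := congrArg Subtype.val (hsec aEl)
  have hfr : f ⟨r, hIr⟩ = aff two 0 := congrArg Subtype.val (hsec rEl)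
  have hJM : f.range ≤ Cfsg.M24 := by rintro _ ⟨x, rfl⟩; exact Subtype.coe_prop _
  have hJB : affSq ≤ f.range := by
    rw [affSq_eq, Subgroup.closure_le]
    rintro _ (rfl | rfl)
    exacts [⟨_, hfa⟩, ⟨_, hfr⟩]
  have hJc : 253 < Nat.card ↥f.range := by
    rw [← Nat.card_congr (MonoidHom.ofInjective hf).toEquiv]; omega
  -- the action of the involution on the intersection
  let θ : ↥I ≃* ↥I :=
    { toFun := fun x => ⟨c x, hIs _ x.2⟩
      invFun := fun x => ⟨c x, hIs _ x.2⟩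
      left_inv := fun x => Subtype.ext (hcc _)
      right_inv := fun x => Subtype.ext (hcc _)
      map_mul' := fun x y => Subtype.ext (map_mul c _ _) }
  let e := MonoidHom.ofInjective hf
  rcases overgroup_cases hJM hJB hJc with hJ0 | hJ23
  swap
  · exfalso
    refine no_invert hJM hJ23 ((e.symm.trans θ).trans e) (hJB ⟨1, 1, IsSquare.one, rfl⟩) ?_
    have h1 : (⟨aff 1 1, hJB ⟨1, 1, IsSquare.one, rfl⟩⟩ : ↥f.range) = e ⟨a, hIa⟩ := Subtype.ext hfa.symm
    rw [h1]
    show e (θ (e.symm (e ⟨a, hIa⟩))) = _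
    rw [MulEquiv.symm_apply_apply, ← map_inv]
    exact congrArg e (Subtype.ext hsa)
  let F : ↥L0 →* G := I.subtype.comp (((MulEquiv.subgroupCongr hJ0.symm).trans e.symm).toMonoidHom)
  have hFapp : ∀ x (hx : x ∈ L0) (y : ↥I), f y = x → F ⟨x, hx⟩ = y := by
    intro x hx y h
    show ((e.symm (MulEquiv.subgroupCongr hJ0.symm ⟨x, hx⟩) : ↥I) : G) = y
    exact congrArg Subtype.val (e.symm_apply_eq.2 (Subtype.ext h.symm))
  have hFinj : Function.Injective F := I.subtype_injective.comp (MulEquiv.injective _)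
  refine exists_pgl F hFinj s s2 ?_ fun x hx hg => ?_
  · rintro ⟨x, hx⟩
    exact hsN (hx ▸ (((MulEquiv.subgroupCongr hJ0.symm).trans e.symm) x).2.1 : s ∈ N)
  have hxI : ∃ y : ↥I, f y = x := by
    have : x ∈ f.range := hJ0 ▸ hx
    exact this
  obtain ⟨y, hy⟩ := hxI
  rw [hFapp x hx y hy]
  suffices h : f (θ y) = sig * x * sig⁻¹ from (hFapp _ _ (θ y) h).symm
  rcases hg with (rfl | rfl) | ⟨u, hu, rfl⟩
  · have hy' : y = ⟨a, hIa⟩ := hf (by rw [hy, hfa, shift_aff])
    rw [hy', show θ ⟨a, hIa⟩ = (⟨a, hIa⟩ : ↥I)⁻¹ from Subtype.ext hsa, map_inv, hfa, shift_aff]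
    simp only [sig, aff_inv, aff_mul]
    congr 1 <;> simp
  · -- the inversion
    set r' : ↥I := ⟨r, hIr⟩ with hr'
    have hyr : f r' = yy := by rw [hfr, yy_eq]
    have hyinv : y * r' * y⁻¹ = r'⁻¹ := hf (by
      rw [map_mul, map_mul, map_inv, map_inv, hy, hyr, projInv_yy])
    have hrθ : θ r' = r' := Subtype.ext hsr
    have hθy : θ y * r' * (θ y)⁻¹ = r'⁻¹ := by
      calc θ y * r' * (θ y)⁻¹ = θ (y * r' * y⁻¹) := by rw [map_mul, map_mul, map_inv, hrθ]
        _ = r'⁻¹ := by rw [hyinv, map_inv, hrθ]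
    have hcomm : Commute (θ y * y⁻¹) r' := by
      refine mul_inv_eq_iff_eq_mul.1 ?_
      have h1 : y⁻¹ * r' * y = r'⁻¹ := by
        rw [← inv_inj, inv_inv]
        calc (y⁻¹ * r' * y)⁻¹ = y⁻¹ * r'⁻¹ * y := by group
          _ = r' := by rw [← hyinv]; group
      calc θ y * y⁻¹ * r' * (θ y * y⁻¹)⁻¹ = θ y * (y⁻¹ * r' * y) * (θ y)⁻¹ := by group
        _ = (θ y * r' * (θ y)⁻¹)⁻¹ := by rw [h1]; group
        _ = r' := by rw [hθy, inv_inv]
    obtain ⟨k, hk : yy ^ k = f (θ y * y⁻¹)⟩ := cent_yy (x := f (θ y * y⁻¹)) (hJ0 ▸ ⟨_, rfl⟩) (by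
      rw [← hyr, ← map_mul, ← map_mul, hcomm.eq])
    have hk' : θ y = r' ^ k * y := by
      rw [← inv_mul_cancel_right (θ y) y]
      exact congrArg (· * y) (hf (by rw [map_zpow, hyr, hk]))
    have h2 : θ (θ y) = r' ^ k * (r' ^ k * y) := by
      conv_lhs => rw [hk', map_mul, map_zpow, hrθ, hk']
    rw [show θ (θ y) = y from Subtype.ext (hcc _), ← mul_assoc, right_eq_mul, ← zpow_add,
      ← orderOf_dvd_iff_zpow_eq_one, ← orderOf_injective f hf, hyr, order_yy] at h2
    have hk0 : r' ^ k = 1 := by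
      rw [← orderOf_dvd_iff_zpow_eq_one, ← orderOf_injective f hf, hyr, order_yy]
      omega
    rw [hk', hk0, one_mul, hy]
    symm
    show aff (-1) 0 * projInv * (aff (-1) 0)⁻¹ = projInv
    rw [aff_inv, mul_zero, mul_assoc, projInv_mul, ← mul_assoc, aff_mul]
    simp [aff_one]
  · obtain ⟨k, hk : yy ^ k = aff u 0⟩ := aff_mem_yy hu
    have hy' : y = (⟨r, hIr⟩ : ↥I) ^ k := hf (by rw [hy, map_zpow, hfr, ← yy_eq, hk, mulLeft_aff])
    rw [hy', map_zpow θ, show θ ⟨r, hIr⟩ = ⟨r, hIr⟩ from Subtype.ext hsr, map_zpow, hfr, ← yy_eq, hk, mulLeft_aff]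
    rw [sig, aff_inv, aff_mul, aff_mul]
    congr 1 <;> simp

end CfsgLib.JFourPGL
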