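import Cfsg.Agent.Lib.Golay.ProjLineMax
import Cfsg.Agent.Lib.SL2.PGLMax.Embed
import Mathlib.Topology.Compactification.OnePoint.ProjectiveLine

/-!
# The projective linear group on the projective line over 23 elements

An involution of a group, normalizing an embedded copy of the projective special linear group as the negation of
the projective line does, gives a copy of the projective linear group.
-/

set_option autoImplicit false
set_option linter.style.haveILetI false

namespace CfsgLib.JFourPGL

open Cfsg CfsgLib.Golay CfsgLib.Golay.ProjLineMax Matrix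

/-- The projective special linear group on the points. -/
def L0 : Subgroup (Equiv.Perm GolayPt) := Subgroup.closure ProjLineMax.genL

/-- The negation of the projective line. -/
def sig : Equiv.Perm GolayPt := aff (-1) 0

/-- The projective general linear group acting on the points. -/
def lineHom : GL (Fin 2) (ZMod 23) →* Equiv.Perm GolayPt :=
  ((Equiv.refl (Option (ZMod 23)) : OnePoint (ZMod 23) ≃ GolayPt).permCongrHom.toMonoidHom.comp
    (MulAction.toPermHom (GL (Fin 2) (ZMod 23)) (OnePoint (ZMod 23))))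

theorem lineHom_apply (M : GL (Fin 2) (ZMod 23)) (z : OnePoint (ZMod 23)) :
    lineHom M z = M • z := rfl

theorem lineHom_eq (M : GL (Fin 2) (ZMod 23)) (g : Equiv.Perm GolayPt)
    (h : ∀ z : OnePoint (ZMod 23), (M • z : OnePoint (ZMod 23)) = g z) : lineHom M = g :=
  Equiv.ext h

theorem lineHom_ker : lineHom.ker = Subgroup.center (GL (Fin 2) (ZMod 23)) := by
  ext M
  rw [MonoidHom.mem_ker]
  constructor
  · intro h
    have hz : ∀ z : OnePoint (ZMod 23), M • z = z := fun z => by rw [← lineHom_apply, h]; rfl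
    have h10 : M 1 0 = 0 := OnePoint.smul_infty_eq_self_iff.1 (hz _)
    have h11 : M 1 1 ≠ 0 := by
      intro h11
      have := M.det_ne_zero
      rw [Matrix.det_fin_two, h10, h11] at this
      simp at this
    have h0 := hz ((0 : ZMod 23) : OnePoint (ZMod 23))
    have h1 := hz ((1 : ZMod 23) : OnePoint (ZMod 23))
    rw [OnePoint.smul_some_eq_ite, h10, zero_mul, zero_add, if_neg h11, OnePoint.coe_eq_coe] at h0 h1
    have h01 : M 0 1 = 0 := by simpa [h11] using h0
    rw [h01, add_zero, mul_one, div_eq_one_iff_eq h11] at h1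
    rw [Matrix.GeneralLinearGroup.center_eq_range_scalar]
    refine ⟨Units.mk0 _ h11, Units.ext ?_⟩
    ext i j
    fin_cases i <;> fin_cases j <;> simp [h1, h10, h01]
  · intro h
    rw [Matrix.GeneralLinearGroup.center_eq_range_scalar] at h
    obtain ⟨t, rfl⟩ := h
    refine lineHom_eq _ _ fun z => ?_
    show _ = z
    cases z using OnePoint.rec with
    | infty => simp [OnePoint.smul_infty_eq_ite]
    | coe x => simp [OnePoint.smul_some_eq_ite, t.ne_zero]

theorem aff_mem_range (u : (ZMod 23)ˣ) (a : ZMod 23) : aff u a ∈ lineHom.range := by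
  refine ⟨GeneralLinearGroup.mkOfDetNeZero !![(u : ZMod 23), a; 0, 1] (by simp [Matrix.det_fin_two]),
    lineHom_eq _ _ fun z => ?_⟩
  cases z using OnePoint.rec with
  | infty =>
    rw [OnePoint.smul_infty_eq_ite]; simp; rfl
  | coe x =>
    rw [OnePoint.smul_some_eq_ite]; simp; rfl

theorem pow_twentyone : ∀ x : ZMod 23, x ≠ 0 → x * x ^ 21 = 1 := by decide +kernel

theorem projInv_mem_range : projInv ∈ lineHom.range := by
  refine ⟨GeneralLinearGroup.mkOfDetNeZero !![0, -1; 1, 0] (by simp [Matrix.det_fin_two]), lineHom_eq _ _ fun z => ?_⟩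
  cases z using OnePoint.rec with
  | infty => rw [OnePoint.smul_infty_eq_ite]; simp; rfl
  | coe x =>
    rw [OnePoint.smul_some_eq_ite]
    show _ = projInvFun (some x)
    by_cases hx : x = 0
    · subst hx; simp [projInvFun]; rfl
    · simp [projInvFun, hx]
      refine congrArg some ?_
      rw [neg_div, one_div]
      exact congrArg Neg.neg (eq_inv_of_mul_eq_one_right (pow_twentyone x hx)).symm

theorem L0_le_range : L0 ≤ lineHom.range := by
  rw [L0, Subgroup.closure_le]
  rintro g ((rfl | rfl) | ⟨u, -, rfl⟩)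
  · rw [shift_aff]; exact aff_mem_range 1 1
  · exact projInv_mem_range
  · rw [mulLeft_aff]; exact aff_mem_range u 0

theorem card_range : Nat.card ↥lineHom.range = 2 * 6072 := by
  rw [← Nat.card_congr (QuotientGroup.quotientKerEquivRange lineHom).toEquiv,
    Nat.card_congr (QuotientGroup.quotientMulEquivOfEq lineHom_ker).toEquiv]
  refine (CfsgLib.SL2.PGLMax.card_pgl (F := ZMod 23)).trans ?_
  rw [Nat.card_zmod]

theorem sig_sq : sig * sig = 1 := by
  rw [sig, aff_mul, ← aff_one]; congr 1 <;> simp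

theorem sig_notMem : sig ∉ L0 := by
  intro h
  rw [L0, ← SetLike.mem_coe, ← range_cell] at h
  obtain ⟨⟨⟨b, u, a, hu, rfl⟩, o⟩, ho⟩ := h
  rcases o with _ | c
  · obtain ⟨rfl, -⟩ := aff_injective (ho : aff u a = aff (-1) 0)
    exact absurd hu (by unfold IsSquare; decide +kernel)
  · have := congrArg (fun g : Equiv.Perm GolayPt => g none) ho
    simp [cell, sig, aff_apply, projInv, projInvFun] at this

theorem sig_conj {x : Equiv.Perm GolayPt} (hx : x ∈ L0) : sig * x * sig⁻¹ ∈ L0 := by
  rw [inv_eq_of_mul_eq_one_right sig_sq]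
  induction hx using Subgroup.closure_induction with
  | mem y hy =>
    rcases hy with (rfl | rfl) | ⟨u, hu, rfl⟩
    · rw [shift_aff, sig, aff_mul, aff_mul]
      exact affSq_le ⟨_, _, by simp, rfl⟩
    · rw [sig, mul_assoc, projInv_mul, ← mul_assoc, aff_mul, show (-1 : (ZMod 23)ˣ) * (-1)⁻¹ = 1 by simp,
        show (((-1 : (ZMod 23)ˣ) : ZMod 23)) * 0 + 0 = 0 by simp, aff_one, one_mul]
      exact projInv_mem_genL
    · rw [mulLeft_aff, sig, aff_mul, aff_mul]
      exact affSq_le ⟨_, _, by simpa using hu, rfl⟩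
  | one => rw [mul_one, sig_sq]; exact one_mem _
  | mul a b _ _ ha hb =>
    rw [show sig * (a * b) * sig = sig * a * sig * (sig * b * sig) by
      rw [← mul_assoc (sig * a * sig) (sig * b) sig, ← mul_assoc (sig * a * sig) sig b, mul_assoc (sig * a) sig sig,
        sig_sq, mul_one, ← mul_assoc sig a b]]
    exact mul_mem ha hb
  | inv a _ ha =>
    rw [show sig * a⁻¹ * sig = (sig * a * sig)⁻¹ by
      rw [_root_.mul_inv_rev, _root_.mul_inv_rev, inv_eq_of_mul_eq_one_right sig_sq, mul_assoc]]
    exact inv_mem ha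

variable {G : Type*} [Group G]

theorem exists_pgl [Finite G] (F : ↥L0 →* G) (hF : Function.Injective F) (s : G) (s2 : s * s = 1)
    (hs : s ∉ F.range)
    (hgen : ∀ x (hx : x ∈ L0), x ∈ ProjLineMax.genL →
      s * F ⟨x, hx⟩ * s⁻¹ = F ⟨sig * x * sig⁻¹, sig_conj hx⟩) :
    ∃ K : Subgroup G, Nonempty (↥K ≃* GL (Fin 2) (ZMod 23) ⧸ Subgroup.center (GL (Fin 2) (ZMod 23))) := by
  classical
  have hall : ∀ x (hx : x ∈ L0), s * F ⟨x, hx⟩ * s⁻¹ = F ⟨sig * x * sig⁻¹, sig_conj hx⟩ := by
    intro x hx
    induction hx using Subgroup.closure_induction with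
    | mem y hy => exact hgen y (Subgroup.subset_closure hy) hy
    | one =>
      rw [show (⟨(1 : Equiv.Perm GolayPt), _⟩ : ↥L0) = 1 from rfl, map_one, mul_one, mul_inv_cancel]
      simp only [mul_one, mul_inv_cancel]
      exact (map_one F).symm
    | mul a b ha hb iha ihb =>
      rw [show (⟨a * b, _⟩ : ↥L0) = ⟨a, ha⟩ * ⟨b, hb⟩ from rfl, map_mul,
        show s * (F ⟨a, ha⟩ * F ⟨b, hb⟩) * s⁻¹ = s * F ⟨a, ha⟩ * s⁻¹ * (s * F ⟨b, hb⟩ * s⁻¹) by group,
        iha, ihb, ← map_mul]
      exact congrArg F (Subtype.ext (by simp only [Subgroup.coe_mul]; group))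
    | inv a ha iha =>
      rw [show (⟨a⁻¹, _⟩ : ↥L0) = (⟨a, ha⟩ : ↥L0)⁻¹ from rfl, map_inv,
        show s * (F ⟨a, ha⟩)⁻¹ * s⁻¹ = (s * F ⟨a, ha⟩ * s⁻¹)⁻¹ by group, iha, ← map_inv]
      exact congrArg F (Subtype.ext (by simp only [InvMemClass.coe_inv]; group))
  have si : s⁻¹ = s := inv_eq_of_mul_eq_one_right s2
  have σi : sig⁻¹ = sig := inv_eq_of_mul_eq_one_right sig_sq
  let p : ↥L0 × Bool → Equiv.Perm GolayPt × G := fun a =>
    bif a.2 then ((a.1 : Equiv.Perm GolayPt) * sig, F a.1 * s) else ((a.1 : Equiv.Perm GolayPt), F a.1)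
  let D : Subgroup (Equiv.Perm GolayPt × G) :=
    { carrier := Set.range p
      mul_mem' := by
        rintro _ _ ⟨⟨a, i⟩, rfl⟩ ⟨⟨b, j⟩, rfl⟩
        have hb : s * F b = F ⟨sig * b * sig⁻¹, sig_conj b.2⟩ * s := by
          rw [← hall b b.2, inv_mul_cancel_right]
        cases i
        · cases j
          · exact ⟨(a * b, false), by simp [p]⟩
          · exact ⟨(a * b, true), by simp [p, mul_assoc]⟩
        · cases j
          · exact ⟨(a * ⟨sig * b * sig⁻¹, sig_conj b.2⟩, true), by
              simp [p, mul_assoc, hb, sig_sq]⟩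
          · exact ⟨(a * ⟨sig * b * sig⁻¹, sig_conj b.2⟩, false), by
              simp only [p, cond_true, cond_false, Prod.mk_mul_mk, Subgroup.coe_mul, map_mul, Prod.mk.injEq]
              refine ⟨by rw [σi]; simp [mul_assoc], ?_⟩
              calc F a * F ⟨sig * b * sig⁻¹, sig_conj b.2⟩
                  = F a * (F ⟨sig * b * sig⁻¹, sig_conj b.2⟩ * (s * s)) := by rw [s2, mul_one]
                _ = F a * ((s * F b) * s) := by rw [hb]; group
                _ = _ := by group⟩
      one_mem' := ⟨(1, false), by simp [p]⟩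
      inv_mem' := by
        rintro _ ⟨⟨a, i⟩, rfl⟩
        cases i
        · exact ⟨(a⁻¹, false), by simp [p]⟩
        · refine ⟨(⟨sig * (a : Equiv.Perm GolayPt)⁻¹ * sig⁻¹, sig_conj (inv_mem a.2)⟩, true), ?_⟩
          simp only [p, cond_true, Prod.inv_mk, _root_.mul_inv_rev, Prod.mk.injEq, si, σi]
          refine ⟨by rw [mul_assoc, sig_sq, mul_one], ?_⟩
          have h := hall (a : Equiv.Perm GolayPt)⁻¹ (inv_mem a.2)
          rw [show (⟨(a : Equiv.Perm GolayPt)⁻¹, _⟩ : ↥L0) = a⁻¹ from rfl, map_inv] at h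
          simp only [σi, si] at h
          rw [← h, mul_assoc, s2, mul_one] }
  let p1 := (MonoidHom.fst (Equiv.Perm GolayPt) G).comp D.subtype
  let p2 := (MonoidHom.snd (Equiv.Perm GolayPt) G).comp D.subtype
  have h1 : Function.Injective p1 := by
    rw [injective_iff_map_eq_one]
    rintro ⟨_, ⟨a, i⟩, rfl⟩ h
    cases i
    · have ha : a = 1 := Subtype.ext h
      exact Subtype.ext (by simp [p, ha])
    · exfalso
      refine sig_notMem ?_
      have h' : (a : Equiv.Perm GolayPt) * sig = 1 := h
      rw [eq_inv_of_mul_eq_one_right h']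
      exact inv_mem a.2
  have h2 : Function.Injective p2 := by
    rw [injective_iff_map_eq_one]
    rintro ⟨_, ⟨a, i⟩, rfl⟩ h
    cases i
    · have ha : a = 1 := hF (h.trans (map_one F).symm)
      exact Subtype.ext (by simp [p, ha])
    · exfalso
      exact hs ⟨a⁻¹, by rw [map_inv]; exact (eq_inv_of_mul_eq_one_right (h : F a * s = 1)).symm⟩
  have hr : p1.range = lineHom.range := by
    refine Subgroup.eq_of_le_of_card_ge ?_ ?_
    · rintro _ ⟨⟨_, ⟨a, i⟩, rfl⟩, rfl⟩
      cases i
      · exact L0_le_range a.2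
      · exact mul_mem (L0_le_range a.2) (aff_mem_range _ _)
    · rw [card_range, ← Nat.card_congr (MonoidHom.ofInjective h1).toEquiv,
        show 2 * 6072 = Nat.card (↥L0 × Bool) by
          rw [Nat.card_prod, L0, card_closure_genL, Nat.card_eq_fintype_card, Fintype.card_bool]]
      refine Nat.card_le_card_of_injective (fun a => (⟨p a, a, rfl⟩ : ↥D)) fun a b h => ?_
      have h' := congrArg (fun x : ↥D => (x : Equiv.Perm GolayPt × G).1) h
      obtain ⟨a, i⟩ := a
      obtain ⟨b, j⟩ := b
      cases i <;> cases j <;> simp only [p, cond_true, cond_false] at h'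
      · rw [Subtype.ext h']
      · exfalso; exact sig_notMem (by
          rw [show sig = (b : Equiv.Perm GolayPt)⁻¹ * a by rw [h']; group]
          exact mul_mem (inv_mem b.2) a.2)
      · exfalso; exact sig_notMem (by
          rw [show sig = (a : Equiv.Perm GolayPt)⁻¹ * b by rw [← h']; group]
          exact mul_mem (inv_mem a.2) b.2)
      · rw [Subtype.ext (mul_right_cancel h')]
  exact ⟨p2.range, ⟨(MonoidHom.ofInjective h2).symm.trans ((MonoidHom.ofInjective h1).trans
    ((MulEquiv.subgroupCongr hr).trans ((QuotientGroup.quotientKerEquivRange lineHom).symm.trans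
      (QuotientGroup.quotientMulEquivOfEq lineHom_ker))))⟩⟩

end CfsgLib.JFourPGL
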